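import Groth.Agent.Lib.CartExt13.Main

/-!
# The closed subscheme where a section extends
-/

set_option autoImplicit false
set_option linter.style.haveILetI false
set_option backward.isDefEq.respectTransparency false
universe u

open CategoryTheory Limits AlgebraicGeometry TopologicalSpace

namespace Groth.Agent.CartExt13

theorem factors_iff_le_ker {S T : Scheme.{u}} (J : S.IdealSheafData) (g : T ⟶ S) :
    (∃ h : T ⟶ J.subscheme, h ≫ J.subschemeι = g) ↔ J ≤ g.ker := by
  constructor
  · rintro ⟨h, rfl⟩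
    exact J.ker_subschemeι.symm.le.trans (Scheme.Hom.le_ker_comp _ _)
  · exact fun h => ⟨IsClosedImmersion.lift J.subschemeι g (by rwa [Scheme.IdealSheafData.ker_subschemeι]),
      IsClosedImmersion.lift_fac _ _ _⟩

/-- A section given off a flat Cartier divisor extends over a closed subscheme of the base. -/
theorem exists_idealSheaf_extend {P Y S : Scheme.{u}} (π : P ⟶ S) [IsProper π] [LocallyOfFinitePresentation π]
    (p : Y ⟶ P) [IsAffineHom p] (I : P.IdealSheafData) (hC : BlowUp.IsEffCartierIdeal I)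
    [Flat (I.subschemeι ≫ π)] (Q : P.Opens) (hQ : Q = I.support.compl) (s : (Q : Scheme.{u}) ⟶ Y) (hs : s ≫ p = Q.ι) :
    ∃ Z : S.IdealSheafData, ∀ (T : Scheme.{u}) (g : T ⟶ S),
      (∃ h : T ⟶ Z.subscheme, h ≫ Z.subschemeι = g) ↔ ∃ f, Good p Q s (pullback.fst π g) f := by
  have hn : ∀ n : ℕ, ∃ J : S.IdealSheafData, ∀ (T : Scheme.{u}) (g : T ⟶ S),
      (∃ h : T ⟶ J.subscheme, h ≫ J.subschemeι = g) ↔
        VanRep13.VanAt ((I ^ n).subschemeι ≫ π)
          (ClSub.idealModι ((numer p I s n).comap (I ^ n).subschemeι)) g := fun n => by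
    obtain ⟨hfl, hlfp⟩ := flat_pow (π := π) hC n
    haveI := hfl
    haveI := hlfp
    haveI := M2.isQCoh_idealMod ((numer p I s n).comap (I ^ n).subschemeι)
    haveI := M1.isQCoh_structureModule (I ^ n).subscheme
    exact VanRep13.exists_idealSheaf _ _ (M1.isFP_of_isFinLocFree
      (M2.isFinLocFree_of_isInvertible (QAGen11.isInvertible_unit _))) (isFlatOver_structureModule _)
  choose J hJ using hn
  refine ⟨⨆ n, J n, fun T g => ?_⟩
  rw [factors_iff_le_ker]
  constructor
  · intro h
    exact exists_good_of_vanAt hC hQ hs fun n => (hJ n T g).1 ((factors_iff_le_ker _ _).2 ((le_iSup J n).trans h))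
  · rintro ⟨f, hf⟩
    exact iSup_le fun n => (factors_iff_le_ker _ _).1 ((hJ n T g).2 (vanAt_of_good hC hQ hs hf n))

end Groth.Agent.CartExt13
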