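import Groth.Agent.Lib.CartExt13.Section
import Groth.Agent.Lib.KFlat.LpullPC
import Groth.Agent.Lib.DPerf.RelAmp
import Groth.Agent.Lib.TensorMod.Invertible
import Groth.Agent.Lib.QAGen11.Basic

/-!
# Multiples of a flat Cartier divisor
-/

set_option autoImplicit false
set_option linter.style.haveILetI false
set_option backward.isDefEq.respectTransparency false
universe u

open CategoryTheory Limits AlgebraicGeometry TopologicalSpace
open scoped TensorProduct

namespace Groth.Agent.CartExt13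

variable {P S : Scheme.{u}} (π : P ⟶ S) (I : P.IdealSheafData)

/-- An affine open over an affine open on which the divisor has an equation. -/
structure Eqn where
  U : P.affineOpens
  V : S.affineOpens
  hU : U.1 ≤ π ⁻¹ᵁ V.1
  a : Γ(P, U.1)
  ha : a ∈ nonZeroDivisors Γ(P, U.1)
  hI : I.ideal U = Ideal.span {a}

variable {π I}

/-- Equations exist near every point. -/
theorem exists_eqn (hC : BlowUp.IsEffCartierIdeal I) (x : P) (V : S.affineOpens) (hx : π x ∈ V.1) :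
    ∃ E : Eqn π I, x ∈ E.U.1 ∧ E.V = V := by
  obtain ⟨U, hxU, a, ha, hI⟩ := hC x
  obtain ⟨r, hr, hxr⟩ := U.2.exists_basicOpen_le (V := π ⁻¹ᵁ V.1) ⟨x, hx⟩ hxU
  letI : Algebra Γ(P, U.1) Γ(P, P.basicOpen r) := (P.presheaf.map (homOfLE (P.basicOpen_le r)).op).hom.toAlgebra
  haveI : IsLocalization.Away r Γ(P, P.basicOpen r) := U.2.isLocalization_basicOpen r
  refine ⟨⟨P.affineBasicOpen r, V, hr, P.presheaf.map (homOfLE (P.basicOpen_le r)).op a,
    IsLocalization.map_nonZeroDivisors_le (.powers r) Γ(P, P.basicOpen r) ⟨a, ha, rfl⟩, ?_⟩, hxr, rfl⟩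
  rw [← I.map_ideal_basicOpen U r, hI, Ideal.map_span, Set.image_singleton]
  rfl

theorem isCompl_eqn (E : Eqn π I) {Q : P.Opens} (hQ : Q = I.support.compl) : IsCompl Q E.a := by
  refine Opens.ext (Set.ext fun x => ⟨fun hx => ?_, fun hx => ⟨P.basicOpen_le _ hx, ?_⟩⟩)
  · have hx1 : x ∈ E.U.1 := hx.1
    by_contra hb
    have hsupp : x ∈ (I.support : Set P) ∩ (E.U.1 : Set P) := by
      rw [I.coe_support_inter E.U, E.hI, Scheme.zeroLocus_span]
      exact ⟨(Scheme.mem_zeroLocus_iff (X := P) _ x).2 fun f hf => by rw [Set.mem_singleton_iff.1 hf]; exact hb, hx1⟩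
    have hx2 : x ∈ Q := hx.2
    rw [hQ] at hx2
    exact hx2 hsupp.1
  · rw [hQ]
    intro hs
    have h : x ∈ (I.support : Set P) ∩ (E.U.1 : Set P) := ⟨hs, P.basicOpen_le _ hx⟩
    rw [I.coe_support_inter E.U, E.hI, Scheme.zeroLocus_span] at h
    exact (Scheme.mem_zeroLocus_iff (X := P) _ x).1 h.1 E.a rfl hx

theorem isAffineHom_compl (hC : BlowUp.IsEffCartierIdeal I) {Q : P.Opens} (hQ : Q = I.support.compl) :
    IsAffineHom Q.ι := by
  refine isAffineHom_of_forall_exists_isAffineOpen _ fun x => ?_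
  obtain ⟨U, hxU, a, ha, hI⟩ := hC x
  refine ⟨U.1, hxU, U.2, ?_⟩
  have hc : IsCompl Q a := isCompl_eqn (π := 𝟙 P) ⟨U, U, le_rfl, a, ha, hI⟩ hQ
  refine (Scheme.Hom.isAffineOpen_iff_of_isOpenImmersion Q.ι).1 ?_
  rw [Scheme.Hom.image_preimage_eq_opensRange_inf, Scheme.Opens.opensRange_ι, inf_comm, hc]
  exact U.2.basicOpen a

/-- The restriction to a closed subscheme is a quotient. -/
theorem exists_quot_equiv (J : P.IdealSheafData) (U : P.affineOpens) :
    Function.Surjective (J.subschemeι.app U.1) ∧ RingHom.ker (J.subschemeι.app U.1).hom = J.ideal U := by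
  refine ⟨J.subschemeι_app_surjective U, ?_⟩
  rw [← Scheme.Hom.ker_apply, J.ker_subschemeι]

theorem algSub_comp (E : Eqn π I) (J : P.IdealSheafData) :
    π.appLE E.V.1 E.U.1 E.hU ≫ J.subschemeι.app E.U.1 =
      (J.subschemeι ≫ π).appLE E.V.1 (J.subschemeι ⁻¹ᵁ E.U.1) (J.subschemeι.preimage_mono E.hU) := by
  rw [Scheme.Hom.app_eq_appLE, Scheme.Hom.appLE_comp_appLE]

/-- The ring of an equation, as an algebra over the base. -/
noncomputable instance Eqn.alg (E : Eqn π I) : Algebra Γ(S, E.V.1) Γ(P, E.U.1) := (π.appLE E.V.1 E.U.1 E.hU).hom.toAlgebra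

variable [Flat (I.subschemeι ≫ π)]

theorem flat_quot (E : Eqn π I) : Module.Flat Γ(S, E.V.1) (Γ(P, E.U.1) ⧸ Ideal.span {E.a}) := by
  have hf := (I.subschemeι ≫ π).flat_appLE E.V.2 (E.U.2.preimage I.subschemeι) (I.subschemeι.preimage_mono E.hU)
  letI := ((I.subschemeι ≫ π).appLE E.V.1 (I.subschemeι ⁻¹ᵁ E.U.1) (I.subschemeι.preimage_mono E.hU)).hom.toAlgebra
  haveI : Module.Flat Γ(S, E.V.1) Γ(I.subscheme, I.subschemeι ⁻¹ᵁ E.U.1) := hf
  obtain ⟨hs, hk⟩ := exists_quot_equiv I E.U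
  let φ : Γ(P, E.U.1) →ₐ[Γ(S, E.V.1)] Γ(I.subscheme, I.subschemeι ⁻¹ᵁ E.U.1) :=
    { (I.subschemeι.app E.U.1).hom with commutes' := fun r => congr($(algSub_comp E I) r) }
  have hker : RingHom.ker φ = Ideal.span {E.a} := hk.trans E.hI
  exact Module.Flat.of_linearEquiv
    ((Ideal.quotientEquivAlgOfEq Γ(S, E.V.1) hker.symm).trans (Ideal.quotientKerAlgEquivOfSurjective (f := φ) hs)).toLinearEquiv

theorem flat_pow [LocallyOfFinitePresentation π] (hC : BlowUp.IsEffCartierIdeal I) (n : ℕ) :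
    Flat ((I ^ n).subschemeι ≫ π) ∧ LocallyOfFinitePresentation ((I ^ n).subschemeι ≫ π) := by
  let ι := (I ^ n).subschemeι
  have hloc : ∀ E : Eqn π I,
      ((ι ≫ π).appLE E.V.1 (ι ⁻¹ᵁ E.U.1) (ι.preimage_mono E.hU)).hom.Flat ∧
      ((ι ≫ π).appLE E.V.1 (ι ⁻¹ᵁ E.U.1) (ι.preimage_mono E.hU)).hom.FinitePresentation := by
    intro E
    letI := ((ι ≫ π).appLE E.V.1 (ι ⁻¹ᵁ E.U.1) (ι.preimage_mono E.hU)).hom.toAlgebra
    haveI := flat_quot E
    haveI := flat_quotient_pow (R := Γ(S, E.V.1)) E.ha n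
    haveI : Algebra.FinitePresentation Γ(S, E.V.1) Γ(P, E.U.1) := π.finitePresentation_appLE E.V.2 E.U.2 E.hU
    obtain ⟨hs, hk⟩ := exists_quot_equiv (I ^ n) E.U
    let φ : Γ(P, E.U.1) →ₐ[Γ(S, E.V.1)] Γ((I ^ n).subscheme, ι ⁻¹ᵁ E.U.1) :=
      { (ι.app E.U.1).hom with commutes' := fun r => congr($(algSub_comp E (I ^ n)) r) }
    have hker : RingHom.ker φ = Ideal.span {E.a ^ n} := by
      rw [show RingHom.ker φ = (I ^ n).ideal E.U from hk, Scheme.IdealSheafData.ideal_pow, Pi.pow_apply, E.hI,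
        Ideal.span_singleton_pow]
    exact ⟨Module.Flat.of_linearEquiv
        ((Ideal.quotientEquivAlgOfEq Γ(S, E.V.1) hker.symm).trans (Ideal.quotientKerAlgEquivOfSurjective (f := φ) hs)).toLinearEquiv.symm,
      Algebra.FinitePresentation.of_surjective (f := φ) hs ((Submodule.fg_span_singleton (E.a ^ n) : (Ideal.span {E.a ^ n}).FG) |> fun h => by
        show (RingHom.ker φ).FG
        rw [hker]; exact h)⟩
  choose E hEx hEV using fun x : ↥(I ^ n).subscheme => exists_eqn (π := π) hC (ι x)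
    ⟨_, (exists_isAffineOpen_mem_and_subset (X := S) (x := π (ι x)) (U := ⊤) trivial).choose_spec.1⟩
    (exists_isAffineOpen_mem_and_subset (X := S) (x := π (ι x)) (U := ⊤) trivial).choose_spec.2.1
  let 𝒰 : (I ^ n).subscheme.OpenCover := (I ^ n).subscheme.openCoverOfIsOpenCover (fun x => ι ⁻¹ᵁ (E x).U.1)
    (eq_top_iff.2 fun x _ => Opens.mem_iSup.2 ⟨x, hEx x⟩)
  constructor
  · refine IsZariskiLocalAtSource.of_openCover 𝒰 fun x => ?_
    have hW := (E x).U.2.preimage ι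
    change Flat ((ι ⁻¹ᵁ (E x).U.1).ι ≫ ι ≫ π)
    rw [← hW.isoSpec_hom_fromSpec, Category.assoc,
      ← IsAffineOpen.SpecMap_appLE_fromSpec (ι ≫ π) (E x).V.2 hW (ι.preimage_mono (E x).hU)]
    haveI : Flat (Spec.map ((ι ≫ π).appLE (E x).V.1 (ι ⁻¹ᵁ (E x).U.1) (ι.preimage_mono (E x).hU))) :=
      (HasRingHomProperty.Spec_iff (P := @Flat)).2 (hloc (E x)).1
    infer_instance
  · refine IsZariskiLocalAtSource.of_openCover 𝒰 fun x => ?_
    have hW := (E x).U.2.preimage ι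
    change LocallyOfFinitePresentation ((ι ⁻¹ᵁ (E x).U.1).ι ≫ ι ≫ π)
    rw [← hW.isoSpec_hom_fromSpec, Category.assoc,
      ← IsAffineOpen.SpecMap_appLE_fromSpec (ι ≫ π) (E x).V.2 hW (ι.preimage_mono (E x).hU)]
    haveI : LocallyOfFinitePresentation (Spec.map ((ι ≫ π).appLE (E x).V.1 (ι ⁻¹ᵁ (E x).U.1) (ι.preimage_mono (E x).hU))) :=
      (HasRingHomProperty.Spec_iff (P := @LocallyOfFinitePresentation)).2 (hloc (E x)).2
    infer_instance

/-- The structure sheaf of a flat scheme is flat over the base. -/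
theorem isFlatOver_structureModule {X : Scheme.{u}} (f : X ⟶ S) [Flat f] :
    FlatMod.IsFlatOver f (Coh.structureModule X) :=
  DPerf.isFlatOver_of_isFlat f (M := Coh.structureModule X) fun x =>
    KFlat.Sch.isFlat_of_isFinLocFree (M2.isFinLocFree_of_isInvertible (QAGen11.isInvertible_unit X)) x

end Groth.Agent.CartExt13
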