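import Mathlib
import Groth.Agent.Lib.GrFlat.Basic

/-!
# A nonzerodivisor with flat quotient
-/

set_option autoImplicit false
set_option linter.style.haveILetI false
universe u

open scoped TensorProduct

namespace Groth.Agent.CartExt13

variable {R B : Type u} [CommRing R] [CommRing B] [Algebra R B]

set_option maxHeartbeats 1000000 in
/-- A nonzerodivisor with flat quotient stays one after base change. -/
theorem mem_nonZeroDivisors_tensor {a : B} (ha : a ∈ nonZeroDivisors B)
    [Module.Flat R (B ⧸ Ideal.span {a})] (C : Type u) [CommRing C] [Algebra R C] :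
    algebraMap B (B ⊗[R] C) a ∈ nonZeroDivisors (B ⊗[R] C) := by
  let g : B →ₗ[R] B := LinearMap.mulLeft R a
  let f : B →ₗ[R] B ⧸ Ideal.span {a} := ((Ideal.span {a}).mkQ).restrictScalars R
  have hg : Function.Injective g := fun x y h => by
    exact (mul_cancel_left_mem_nonZeroDivisors ha).1 h
  have hex : Function.Exact g f := fun x => by
    show Ideal.Quotient.mk (Ideal.span {a}) x = 0 ↔ _
    rw [Ideal.Quotient.eq_zero_iff_mem, Ideal.mem_span_singleton', Set.mem_range]
    exact ⟨fun ⟨c, hc⟩ => ⟨c, (mul_comm a c).trans hc⟩, fun ⟨c, hc⟩ => ⟨c, (mul_comm c a).trans hc⟩⟩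
  have hf : Function.Surjective f := fun x => by
    obtain ⟨x, rfl⟩ := Ideal.Quotient.mk_surjective x
    exact ⟨x, rfl⟩
  have hinj : Function.Injective (g.lTensor C) :=
    LinearMap.lTensor_injective_of_exact_of_flat (R := R) (M := B) (N := B) (P := B ⧸ Ideal.span {a}) f hf g hg hex C
  have hcomm : ∀ z : C ⊗[R] B, TensorProduct.comm R C B (g.lTensor C z) =
      algebraMap B (B ⊗[R] C) a * TensorProduct.comm R C B z := fun z => by
    induction z using TensorProduct.induction_on with
    | zero => simp
    | tmul c b => simp [g, Algebra.TensorProduct.algebraMap_apply]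
    | add x y hx hy => simp only [map_add, hx, hy, mul_add]
  refine mem_nonZeroDivisors_iff_left.2 fun z hz => ?_
  obtain ⟨z, rfl⟩ := (TensorProduct.comm R C B).surjective z
  rw [← hcomm, LinearEquiv.map_eq_zero_iff] at hz
  rw [LinearEquiv.map_eq_zero_iff]
  exact hinj (hz.trans (map_zero _).symm)

/-- Powers of a nonzerodivisor with flat quotient have flat quotient. -/
theorem flat_quotient_pow {a : B} (ha : a ∈ nonZeroDivisors B) [Module.Flat R (B ⧸ Ideal.span {a})] :
    ∀ n : ℕ, Module.Flat R (B ⧸ Ideal.span {a ^ n}) := by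
  intro n
  induction n with
  | zero =>
    haveI : Subsingleton (B ⧸ Ideal.span {a ^ 0}) :=
      Ideal.Quotient.subsingleton_iff.2 (by rw [pow_zero, Ideal.span_singleton_one])
    infer_instance
  | succ n ih =>
    let g : B ⧸ Ideal.span {a} →ₗ[R] B ⧸ Ideal.span {a ^ (n + 1)} :=
      (Submodule.mapQ (Ideal.span {a}) (Ideal.span {a ^ (n + 1)}) (LinearMap.mulLeft B (a ^ n)) (by
        intro x hx
        obtain ⟨c, rfl⟩ := Ideal.mem_span_singleton'.1 hx
        exact Ideal.mem_span_singleton'.2 ⟨c, by simp [pow_succ]; ring⟩)).restrictScalars R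
    let f : B ⧸ Ideal.span {a ^ (n + 1)} →ₗ[R] B ⧸ Ideal.span {a ^ n} :=
      (Submodule.factor (Ideal.span_singleton_le_span_singleton.2 (pow_dvd_pow a n.le_succ))).restrictScalars R
    have hg : Function.Injective g := by
      rw [injective_iff_map_eq_zero]
      intro x hx
      obtain ⟨x, rfl⟩ := Submodule.Quotient.mk_surjective _ x
      obtain ⟨c, hc⟩ := Ideal.mem_span_singleton'.1 ((Submodule.Quotient.mk_eq_zero _).1 hx)
      refine (Submodule.Quotient.mk_eq_zero _).2 (Ideal.mem_span_singleton'.2 ⟨c, ?_⟩)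
      refine (mul_cancel_left_mem_nonZeroDivisors (pow_mem ha n)).1 (Eq.trans ?_ hc)
      ring
    have hf : Function.Surjective f := fun x => by
      obtain ⟨x, rfl⟩ := Submodule.Quotient.mk_surjective _ x
      exact ⟨Submodule.Quotient.mk x, rfl⟩
    have hex : Function.Exact g f := fun x => by
      obtain ⟨x, rfl⟩ := Submodule.Quotient.mk_surjective _ x
      constructor
      · intro h
        obtain ⟨c, hc⟩ := Ideal.mem_span_singleton'.1 ((Submodule.Quotient.mk_eq_zero _).1 h)
        exact ⟨Submodule.Quotient.mk c, congrArg Submodule.Quotient.mk ((mul_comm (a ^ n) c).trans hc)⟩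
      · rintro ⟨y, hy⟩
        obtain ⟨y, rfl⟩ := Submodule.Quotient.mk_surjective _ y
        rw [← hy]
        exact (Submodule.Quotient.mk_eq_zero _).2 (Ideal.mem_span_singleton'.2 ⟨y, mul_comm _ _⟩)
    haveI : Module.Flat R (B ⧸ Ideal.span {a}) := ‹_›
    exact GrFlat.flat_middle g hg f hex hf

end Groth.Agent.CartExt13
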