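import Groth.Agent.Lib.VanRep13.Main
import Groth.Agent.Lib.TensorMod.IdealMod

/-!
# Affine charts of a base change
-/

set_option autoImplicit false
set_option linter.style.haveILetI false
set_option backward.isDefEq.respectTransparency false
universe u

open CategoryTheory Limits AlgebraicGeometry TopologicalSpace
open scoped TensorProduct

namespace Groth.Agent.CartExt13

open VanRep13 (toY)

variable {X S T : Scheme.{u}} (q : X ⟶ S) (g : T ⟶ S)

/-- Compatible affine opens of the three schemes. -/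
structure Idx where
  U : X.affineOpens
  V : S.affineOpens
  W : T.affineOpens
  hU : U.1 ≤ q ⁻¹ᵁ V.1
  hW : W.1 ≤ g ⁻¹ᵁ V.1

variable {q g} (c : Idx q g)

noncomputable instance Idx.algU : Algebra Γ(S, c.V.1) Γ(X, c.U.1) := (q.appLE c.V.1 c.U.1 c.hU).hom.toAlgebra

noncomputable instance Idx.algW : Algebra Γ(S, c.V.1) Γ(T, c.W.1) := (g.appLE c.V.1 c.W.1 c.hW).hom.toAlgebra

/-- The ring of a chart. -/
abbrev Idx.D : Type u := Γ(X, c.U.1) ⊗[Γ(S, c.V.1)] Γ(T, c.W.1)

/-- The chart of the base change. -/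
noncomputable def Idx.map : Spec (CommRingCat.of c.D) ⟶ pullback q g :=
  (pullbackSpecIso Γ(S, c.V.1) Γ(X, c.U.1) Γ(T, c.W.1)).inv ≫
    pullback.map _ _ q g c.U.2.fromSpec c.W.2.fromSpec c.V.2.fromSpec
      (IsAffineOpen.SpecMap_appLE_fromSpec q c.V.2 c.U.2 c.hU)
      (IsAffineOpen.SpecMap_appLE_fromSpec g c.V.2 c.W.2 c.hW)

instance : IsOpenImmersion c.map := by unfold Idx.map; infer_instance

theorem Idx.map_fst : c.map ≫ pullback.fst q g = toY c.U.2 c.D := by
  rw [Idx.map, Category.assoc, pullback.map, pullback.lift_fst, pullbackSpecIso_inv_fst'_assoc]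

theorem Idx.range_map :
    Set.range c.map = pullback.fst q g ⁻¹' (c.U.1 : Set X) ∩ pullback.snd q g ⁻¹' (c.W.1 : Set T) := by
  rw [Idx.map, Scheme.Hom.comp_base, TopCat.coe_comp, Set.range_comp,
    Set.range_eq_univ.2 (Surjective.surj (f := (pullbackSpecIso Γ(S, c.V.1) Γ(X, c.U.1) Γ(T, c.W.1)).inv)),
    Set.image_univ, Scheme.Pullback.range_map]
  erw [c.U.2.range_fromSpec, c.W.2.range_fromSpec]

/-- Charts through a basis of affine opens of the source cover. -/
theorem exists_idx (P : X.affineOpens → Prop)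
    (hP : ∀ (x : X) (V : S.affineOpens), q x ∈ V.1 → ∃ U : X.affineOpens, x ∈ U.1 ∧ U.1 ≤ q ⁻¹ᵁ V.1 ∧ P U)
    (z : ↥(pullback q g)) : ∃ c : Idx q g, P c.U ∧ z ∈ Set.range c.map := by
  have hz : q (pullback.fst q g z) = g (pullback.snd q g z) := by
    rw [← Scheme.Hom.comp_apply, ← Scheme.Hom.comp_apply, pullback.condition]
  obtain ⟨_, ⟨V, hV, rfl⟩, hxV, -⟩ :=
    S.isBasis_affineOpens.exists_subset_of_mem_open (Set.mem_univ (q (pullback.fst q g z))) isOpen_univ
  obtain ⟨U, hxU, hUV, hPU⟩ := hP _ ⟨V, hV⟩ hxV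
  obtain ⟨_, ⟨W, hW, rfl⟩, hxW, hWV⟩ := T.isBasis_affineOpens.exists_subset_of_mem_open
    (show pullback.snd q g z ∈ g ⁻¹ᵁ V by
      show g (pullback.snd q g z) ∈ V
      rw [← hz]; exact hxV) (g ⁻¹ᵁ V).isOpen
  refine ⟨⟨U, ⟨V, hV⟩, ⟨W, hW⟩, hUV, hWV⟩, hPU, ?_⟩
  rw [Idx.range_map]
  exact ⟨hxU, hxW⟩

/-- Vanishing of an ideal on the base change, on charts. -/
theorem vanAt_idealMod_iff (K : X.IdealSheafData) :
    VanRep13.VanAt q (ClSub.idealModι K) g ↔
      ∀ (c : Idx q g), ∀ x ∈ K.ideal c.U, algebraMap Γ(X, c.U.1) c.D x = 0 := by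
  haveI := M2.isQCoh_idealMod K
  haveI := M1.isQCoh_structureModule X
  have key : ∀ c : Idx q g, (Scheme.Modules.pullback c.map).map
      ((Scheme.Modules.pullback (pullback.fst q g)).map (ClSub.idealModι K)) = 0 ↔
        ∀ x ∈ K.ideal c.U, algebraMap Γ(X, c.U.1) c.D x = 0 := by
    intro c
    rw [← VanRep13.map_eq_zero_cmp_iff c.map _ c.map_fst, VanRep13.pullback_map_eq_zero_iff]
    have hrid : ∀ x : Γ(X, c.U.1), TensorProduct.rid Γ(X, c.U.1) c.D ((1 : c.D) ⊗ₜ[Γ(X, c.U.1)] x) =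
        algebraMap Γ(X, c.U.1) c.D x := fun x => by
      rw [TensorProduct.rid_tmul, Algebra.smul_def, mul_one]
    constructor
    · intro h x hx
      obtain ⟨a, rfl⟩ := (M2.range_idealIncl K c.U).ge hx
      rw [← hrid]
      exact (TensorProduct.rid Γ(X, c.U.1) c.D).map_eq_zero_iff.2 (h a)
    · intro h a
      refine (TensorProduct.rid Γ(X, c.U.1) c.D).map_eq_zero_iff.1 ?_
      exact (hrid (M2.idealIncl K a)).trans (h _ ((M2.range_idealIncl K c.U).le ⟨a, rfl⟩))
  constructor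
  · intro h c
    refine (key c).1 ?_
    rw [show (Scheme.Modules.pullback (pullback.fst q g)).map (ClSub.idealModι K) = 0 from h, Functor.map_zero]
  · intro h
    refine VanRep13.hom_eq_zero_of_cover _ _ (fun c : Idx q g => c.map) (fun z => ?_) fun c => (key c).2 (h c)
    obtain ⟨c, -, hc⟩ := exists_idx (P := fun _ => True) (fun x V hx => by
      obtain ⟨_, ⟨U, hU, rfl⟩, hxU, hUV⟩ :=
        X.isBasis_affineOpens.exists_subset_of_mem_open (show x ∈ q ⁻¹ᵁ V.1 from hx) (q ⁻¹ᵁ V.1).isOpen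
      exact ⟨⟨U, hU⟩, hxU, hUV, trivial⟩) z
    exact ⟨c, hc⟩

end Groth.Agent.CartExt13
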