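import Groth.Agent.Lib.CartExt13.Divisor

/-!
# The locus where a section extends over a flat Cartier divisor
-/

set_option autoImplicit false
set_option linter.style.haveILetI false
set_option backward.isDefEq.respectTransparency false
universe u

open CategoryTheory Limits AlgebraicGeometry TopologicalSpace
open scoped TensorProduct

namespace Groth.Agent.CartExt13

open VanRep13 (toY)

variable {P Y S : Scheme.{u}} {π : P ⟶ S} {p : Y ⟶ P} {I : P.IdealSheafData} {Q : P.Opens} {s : (Q : Scheme.{u}) ⟶ Y}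

/-- The numerators of order `n` of the section. -/
noncomputable def numer (p : Y ⟶ P) (I : P.IdealSheafData) (s : (Q : Scheme.{u}) ⟶ Y) (n : ℕ) : P.IdealSheafData :=
  (s.ker ⊔ (I ^ n).comap p).map p

theorem bot_of_cover {X : Scheme.{u}} (J : X.IdealSheafData) {ι : Type*} (U : ι → Scheme.{u}) (j : ∀ i, U i ⟶ X)
    [∀ i, IsOpenImmersion (j i)] [∀ i, IsAffine (U i)] (hcov : ∀ x, ∃ i, x ∈ Set.range (j i))
    (h : ∀ i, J.comap (j i) = ⊥) : J = ⊥ := by
  refine le_bot_iff.1 (Scheme.IdealSheafData.le_of_iSup_eq_top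
    (fun i => ⟨j i ''ᵁ ⊤, (isAffineOpen_top (U i)).image_of_isOpenImmersion (j i)⟩)
    (eq_top_iff.2 fun x _ => Opens.mem_iSup.2 ?_) fun i => ?_)
  · obtain ⟨i, y, hy⟩ := hcov x
    exact ⟨i, ⟨y, trivial, hy⟩⟩
  · intro z hz
    have h1 := congr($(h i).ideal ⟨⊤, isAffineOpen_top (U i)⟩)
    rw [Scheme.IdealSheafData.ideal_comap_of_isOpenImmersion, Scheme.IdealSheafData.ideal_bot, Pi.bot_apply] at h1
    let e := (j i).appIso ⊤
    have hz' : e.hom z ∈ (⊥ : Ideal _) := by
      rw [← h1, Ideal.mem_comap]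
      show e.inv (e.hom z) ∈ _
      rw [e.hom_inv_id_apply]
      exact hz
    rw [Scheme.IdealSheafData.ideal_bot, Pi.bot_apply, Ideal.mem_bot]
    exact e.commRingCatIsoToRingEquiv.injective ((Ideal.mem_bot.1 hz').trans (map_zero _).symm)

/-- Morphisms out of an open of an affine scheme agree when they agree on basic opens. -/
theorem hom_ext_basic (D : Type u) [CommRing D] {A Z : Scheme.{u}} (r : A ⟶ Spec (CommRingCat.of D)) [IsOpenImmersion r]
    (u u' : A ⟶ Z)
    (h : ∀ (d : D) (k' : Spec (CommRingCat.of (Localization.Away d)) ⟶ A), k' ≫ r = locMap D d → k' ≫ u = k' ≫ u') :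
    u = u' := by
  have hx : ∀ x : A, ∃ d : D, r x ∈ PrimeSpectrum.basicOpen d ∧
      Set.range (locMap D d) ⊆ Set.range r := fun x => by
    obtain ⟨_, ⟨d, rfl⟩, hd, hsub⟩ := PrimeSpectrum.isTopologicalBasis_basic_opens.exists_subset_of_mem_open
      (show r x ∈ Set.range r from ⟨x, rfl⟩) r.isOpenEmbedding.isOpen_range
    exact ⟨d, hd, fun t ht => hsub ((PrimeSpectrum.localization_away_comap_range (Localization.Away d) d).le ht)⟩
  choose d hd hsub using hx
  let k := fun x => IsOpenImmersion.lift r (locMap D (d x)) (hsub x)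
  haveI : ∀ x, IsOpenImmersion (k x) := fun x => by
    haveI : IsOpenImmersion (locMap D (d x)) := IsOpenImmersion.of_isLocalization (d x)
    haveI : IsOpenImmersion (k x ≫ r) := by rw [IsOpenImmersion.lift_fac]; infer_instance
    exact IsOpenImmersion.of_comp (k x) r
  let 𝒰 : A.OpenCover :=
    { I₀ := A
      X := fun x => Spec (CommRingCat.of (Localization.Away (d x)))
      f := k
      mem₀ := by
        rw [Scheme.presieve₀_mem_precoverage_iff]
        refine ⟨fun x => ?_, fun x => inferInstance⟩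
        obtain ⟨t, ht⟩ := (PrimeSpectrum.localization_away_comap_range (Localization.Away (d x)) (d x)).ge (hd x)
        refine ⟨x, t, r.isOpenEmbedding.injective ?_⟩
        rw [← Scheme.Hom.comp_apply, IsOpenImmersion.lift_fac]
        exact ht }
  exact 𝒰.hom_ext _ _ fun x => h _ _ (IsOpenImmersion.lift_fac _ _ _)

theorem toY_self {U : P.Opens} (hU : IsAffineOpen U) : toY hU Γ(P, U) = hU.fromSpec := by
  have h : CommRingCat.ofHom (algebraMap Γ(P, U) Γ(P, U)) = 𝟙 Γ(P, U) := by ext x; rfl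
  show Spec.map (CommRingCat.ofHom (algebraMap Γ(P, U) Γ(P, U))) ≫ hU.fromSpec = hU.fromSpec
  rw [h]
  erw [Spec.map_id, Category.id_comp]

/-- The transition between the localizations of a chart. -/
noncomputable def locHom {B : Type u} [CommRing B] (D : Type u) [CommRing D] [Algebra B D] (a : B) :
    Localization.Away (algebraMap B B a) →+* Localization.Away (algebraMap B D a) :=
  IsLocalization.Away.lift (algebraMap B B a) (g := (algebraMap D (Localization.Away (algebraMap B D a))).comp (algebraMap B D))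
    (IsLocalization.Away.algebraMap_isUnit (algebraMap B D a))

theorem locHom_algebraMap {B : Type u} [CommRing B] (D : Type u) [CommRing D] [Algebra B D] (a x : B) :
    locHom D a (algebraMap B _ x) = algebraMap D _ (algebraMap B D x) :=
  IsLocalization.Away.lift_eq _ _ x

theorem offMap_natural {U : P.Opens} {hU : IsAffineOpen U} {a : Γ(P, U)} (hcp : IsCompl Q a)
    (D : Type u) [CommRing D] [Algebra Γ(P, U) D] :
    Spec.map (CommRingCat.ofHom (locHom D a)) ≫ offMap (hU := hU) hcp Γ(P, U) = offMap (hU := hU) hcp D := by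
  rw [← cancel_mono Q.ι, Category.assoc, offMap_ι, offMap_ι]
  unfold toY locMap
  rw [← Spec.map_comp_assoc, ← Spec.map_comp_assoc, ← Spec.map_comp_assoc]
  congr 2
  ext x
  exact locHom_algebraMap D a x

theorem ringMap_natural [IsAffineHom p] {U : P.Opens} {hU : IsAffineOpen U} {a : Γ(P, U)} (hcp : IsCompl Q a)
    (D : Type u) [CommRing D] [Algebra Γ(P, U) D]
    (χB : Γ(Y, p ⁻¹ᵁ U) ⟶ CommRingCat.of (Localization.Away (algebraMap Γ(P, U) Γ(P, U) a)))
    (hχB : Spec.map χB ≫ (hU.preimage p).fromSpec = offMap (hU := hU) hcp Γ(P, U) ≫ s)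
    (χD : Γ(Y, p ⁻¹ᵁ U) ⟶ CommRingCat.of (Localization.Away (algebraMap Γ(P, U) D a)))
    (hχD : Spec.map χD ≫ (hU.preimage p).fromSpec = offMap (hU := hU) hcp D ≫ s) :
    χB ≫ CommRingCat.ofHom (locHom D a) = χD := by
  apply Spec.map_injective
  rw [← cancel_mono (hU.preimage p).fromSpec, Spec.map_comp, Category.assoc, hχD, hχB, ← Category.assoc,
    offMap_natural]

section Charts

variable (hC : BlowUp.IsEffCartierIdeal I) [Flat (I.subschemeι ≫ π)] {T : Scheme.{u}} {g : T ⟶ S}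

/-- A chart with an equation. -/
structure EqIdx (π : P ⟶ S) (I : P.IdealSheafData) (g : T ⟶ S) where
  c : Idx π g
  a : Γ(P, c.U.1)
  ha : a ∈ nonZeroDivisors Γ(P, c.U.1)
  hI : I.ideal c.U = Ideal.span {a}

theorem EqIdx.isCompl (e : EqIdx π I g) (hQ : Q = I.support.compl) : IsCompl Q e.a :=
  isCompl_eqn (⟨e.c.U, e.c.V, e.c.hU, e.a, e.ha, e.hI⟩ : Eqn π I) hQ

theorem EqIdx.nzd (e : EqIdx π I g) : algebraMap Γ(P, e.c.U.1) e.c.D e.a ∈ nonZeroDivisors e.c.D := by
  haveI : Module.Flat Γ(S, e.c.V.1) (Γ(P, e.c.U.1) ⧸ Ideal.span {e.a}) :=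
    flat_quot (⟨e.c.U, e.c.V, e.c.hU, e.a, e.ha, e.hI⟩ : Eqn π I)
  exact mem_nonZeroDivisors_tensor e.ha _

include hC in
omit [Flat (I.subschemeι ≫ π)] in
theorem exists_eqIdx (z : ↥(pullback π g)) : ∃ e : EqIdx π I g, z ∈ Set.range e.c.map := by
  obtain ⟨c, ⟨a, ha, hI⟩, hz⟩ := exists_idx (q := π) (g := g)
    (fun U => ∃ a : Γ(P, U.1), a ∈ nonZeroDivisors Γ(P, U.1) ∧ I.ideal U = Ideal.span {a})
    (fun x V hx => by
      obtain ⟨E, hxE, hV⟩ := exists_eqn (π := π) hC x V hx
      exact ⟨E.U, hxE, hV ▸ E.hU, E.a, E.ha, E.hI⟩) z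
  exact ⟨⟨c, a, ha, hI⟩, hz⟩

variable [IsAffineHom p] (hQ : Q = I.support.compl) (hs : s ≫ p = Q.ι)

set_option maxHeartbeats 2000000 in
include hC hQ hs in
/-- An extension satisfies the vanishing conditions. -/
theorem vanAt_of_good {f : pullback π g ⟶ Y} (hf : Good p Q s (pullback.fst π g) f) (n : ℕ) :
    VanRep13.VanAt ((I ^ n).subschemeι ≫ π) (ClSub.idealModι ((numer p I s n).comap (I ^ n).subschemeι)) g := by
  let ι := (I ^ n).subschemeι
  have hker : s.ker.comap f = ⊥ := by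
    refine bot_of_cover _ (fun e : EqIdx π I g => Spec (CommRingCat.of e.c.D)) (fun e => e.c.map)
      (fun z => exists_eqIdx hC z) fun e => ?_
    rw [← Scheme.IdealSheafData.comap_comp]
    have h := hf.comp e.c.map
    rw [e.c.map_fst] at h
    exact Good.ker_le (e.isCompl hQ) e.c.D hs e.nzd h
  let m : pullback (ι ≫ π) g ⟶ pullback π g := pullback.map (ι ≫ π) g π g ι (𝟙 T) (𝟙 S) (by simp) (by simp)
  have hm : m ≫ pullback.fst π g = pullback.fst (ι ≫ π) g ≫ ι := pullback.lift_fst _ _ _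
  have h1 : s.ker ⊔ (I ^ n).comap p ≤ (m ≫ f).ker := by
    refine sup_le ?_ ?_
    · rw [← Scheme.IdealSheafData.map_bot (m ≫ f), Scheme.IdealSheafData.le_map_iff_comap_le,
        Scheme.IdealSheafData.comap_comp, hker, Scheme.IdealSheafData.comap_bot]
    · rw [← Scheme.IdealSheafData.le_map_iff_comap_le, Scheme.IdealSheafData.map_ker, Category.assoc, hf.1, hm]
      exact ((I ^ n).ker_subschemeι.symm.le).trans (Scheme.Hom.le_ker_comp _ _)
  have h2 : (numer p I s n).comap ι ≤ (pullback.fst (ι ≫ π) g).ker := by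
    rw [← Scheme.IdealSheafData.le_map_iff_comap_le, Scheme.IdealSheafData.map_ker, ← hm, ← hf.1, ← Category.assoc,
      ← Scheme.IdealSheafData.map_ker]
    exact Scheme.IdealSheafData.map_mono p h1
  refine (vanAt_idealMod_iff _).2 fun c x hx => ?_
  have h3 : (pullback.fst (ι ≫ π) g).app c.U.1 x = 0 := Scheme.Hom.ideal_ker_le _ _ (h2 c.U hx)
  have h4 := congr($(VanRep13.toY_appLE c.U.2 c.D (VanRep13.toY_preimage c.U.2 c.D).ge) x)
  rw [ConcreteCategory.comp_apply] at h4
  have h5 : (toY c.U.2 c.D).appLE c.U.1 ⊤ (VanRep13.toY_preimage c.U.2 c.D).ge x = 0 := by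
    have key : ∀ (w : Spec (CommRingCat.of c.D) ⟶ (I ^ n).subscheme) (he : ⊤ ≤ w ⁻¹ᵁ c.U.1),
        w = c.map ≫ pullback.fst (ι ≫ π) g → w.appLE c.U.1 ⊤ he x = 0 := by
      rintro w he rfl
      rw [Scheme.Hom.appLE, CommRingCat.comp_apply, Scheme.Hom.comp_app, CommRingCat.comp_apply, h3, map_zero,
        map_zero]
    exact key _ _ c.map_fst.symm
  rw [h5, map_zero] at h4
  exact h4.symm

set_option maxHeartbeats 1600000 in
include hQ hs in
/-- The value of the section on a function over a chart is a fraction of a numerator. -/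
theorem exists_numer_eq (hC : BlowUp.IsEffCartierIdeal I) (E : Eqn π I) (D : Type u) [CommRing D] [Algebra Γ(P, E.U.1) D]
    (hcp : IsCompl Q E.a)
    (χD : Γ(Y, p ⁻¹ᵁ E.U.1) ⟶ CommRingCat.of (Localization.Away (algebraMap Γ(P, E.U.1) D E.a)))
    (hχD : Spec.map χD ≫ (E.U.2.preimage p).fromSpec = offMap (hU := E.U.2) hcp D ≫ s) (y : Γ(Y, p ⁻¹ᵁ E.U.1)) :
    ∃ (n : ℕ) (b : Γ(P, E.U.1)), b ∈ (numer p I s n).ideal E.U ∧
      (χD y : Localization.Away (algebraMap Γ(P, E.U.1) D E.a)) * algebraMap D _ (algebraMap Γ(P, E.U.1) D E.a) ^ n =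
        algebraMap D _ (algebraMap Γ(P, E.U.1) D b) := by
  haveI := isAffineHom_compl hC hQ
  haveI : IsAffineHom (s ≫ p) := by rw [hs]; infer_instance
  haveI : IsAffineHom s := IsAffineHom.of_comp s p
  let B := Γ(P, E.U.1)
  let aD := algebraMap B D E.a
  -- the section over the chart of `P`
  let aB := algebraMap B B E.a
  obtain ⟨χB, hχB, hχBp⟩ := exists_ringMap B (locMap B aB) (offMap (hU := E.U.2) hcp B ≫ s)
    (off_section_comp hcp B hs)
  let hom := locHom D E.a
  have hhom : ∀ x : B, hom (algebraMap B _ x) = algebraMap D _ (algebraMap B D x) := fun x => locHom_algebraMap D E.a x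
  have hrel : χB ≫ CommRingCat.ofHom hom = χD := ringMap_natural hcp D χB hχB χD hχD
  obtain ⟨⟨b, ⟨_, n, rfl⟩⟩, hb⟩ := IsLocalization.surj (Submonoid.powers aB) (show Localization.Away aB from χB y)
  change (χB y : Localization.Away aB) * algebraMap B _ (aB ^ n) = algebraMap B _ b at hb
  replace hb : (χB y : Localization.Away aB) * algebraMap B _ (E.a ^ n) = algebraMap B _ b := hb
  -- the relation lies in the ideal of numerators
  have hpre : ∀ x : B, χB (p.app E.U.1 x) = algebraMap B (Localization.Away aB) x := fun x => by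
    rw [Spec.preimage_map] at hχBp
    exact congr($hχBp x)
  let z : Γ(Y, p ⁻¹ᵁ E.U.1) := p.app E.U.1 b - p.app E.U.1 (E.a ^ n) * y
  have hz : χB z = 0 := by
    rw [map_sub, map_mul, hpre, hpre, ← hb, mul_comm, sub_self]
  have hzs : z ∈ s.ker.ideal ⟨_, E.U.2.preimage p⟩ := by
    rw [Scheme.Hom.ker_apply, RingHom.mem_ker]
    let j := offMap (hU := E.U.2) hcp B
    haveI hjopen : IsOpenImmersion j := by
      haveI : IsOpenImmersion (locMap B aB) := IsOpenImmersion.of_isLocalization aB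
      haveI : IsOpenImmersion (j ≫ Q.ι) := by
        rw [offMap_ι, toY_self]
        infer_instance
      exact IsOpenImmersion.of_comp j Q.ι
    have hle : s ⁻¹ᵁ (p ⁻¹ᵁ E.U.1) ≤ j.opensRange := by
      intro x hx
      have hxU : (Q.ι x : P) ∈ E.U.1 := by rw [← hs, Scheme.Hom.comp_apply]; exact hx
      have hxB : (Q.ι x : P) ∈ P.basicOpen E.a := by rw [← hcp]; exact ⟨hxU, x.2⟩
      rw [← E.U.2.fromSpec_image_basicOpen] at hxB
      obtain ⟨t, ht, htx⟩ := hxB
      obtain ⟨t', ht'⟩ := (PrimeSpectrum.localization_away_comap_range (Localization.Away aB) aB).ge ht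
      refine ⟨t', Q.ι.isOpenEmbedding.injective ?_⟩
      rw [← Scheme.Hom.comp_apply, offMap_ι, Scheme.Hom.comp_apply]
      rw [toY_self]
      exact (congrArg E.U.2.fromSpec ht').trans htx
    haveI := Scheme.Hom.isIso_app j (s ⁻¹ᵁ (p ⁻¹ᵁ E.U.1)) hle
    refine (ConcreteCategory.bijective_of_isIso (j.app (s ⁻¹ᵁ (p ⁻¹ᵁ E.U.1)))).1 ?_
    rw [map_zero, ← CommRingCat.comp_apply, ← Scheme.Hom.comp_app]
    have key : ∀ u : Spec (CommRingCat.of (Localization.Away aB)) ⟶ Y,
        u = Spec.map χB ≫ (E.U.2.preimage p).fromSpec → u.app (p ⁻¹ᵁ E.U.1) z = 0 := by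
      rintro u rfl
      rw [Scheme.Hom.comp_app, CommRingCat.comp_apply, IsAffineOpen.fromSpec_app_self, CommRingCat.comp_apply]
      have hnat := congr($(Scheme.ΓSpecIso_inv_naturality χB) z)
      rw [CommRingCat.comp_apply, hz, map_zero, CommRingCat.comp_apply] at hnat
      rw [← CommRingCat.comp_apply, ← CommRingCat.comp_apply]
      erw [Scheme.Hom.naturality]
      rw [CommRingCat.comp_apply]
      refine (congrArg (ConcreteCategory.hom ((Spec (CommRingCat.of (Localization.Away aB))).presheaf.map _)) hnat.symm).trans ?_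
      exact map_zero ((Spec (CommRingCat.of (Localization.Away aB))).presheaf.map _).hom
    exact key _ hχB.symm
  have hbK : b ∈ (numer p I s n).ideal E.U := by
    rw [numer, Scheme.IdealSheafData.ideal_map_of_isAffineHom, Ideal.mem_comap, Scheme.IdealSheafData.ideal_sup]
    have ha : p.app E.U.1 (E.a ^ n) * y ∈ ((I ^ n).comap p).ideal ⟨_, E.U.2.preimage p⟩ := by
      refine Ideal.mul_mem_right _ _ ?_
      have h1 := Scheme.IdealSheafData.le_map_comap (J := I ^ n) p E.U
      rw [Scheme.IdealSheafData.ideal_map_of_isAffineHom] at h1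
      refine h1 ?_
      rw [Scheme.IdealSheafData.ideal_pow, Pi.pow_apply, E.hI, Ideal.span_singleton_pow]
      exact Ideal.mem_span_singleton_self _
    have := Submodule.add_mem_sup hzs ha
    rwa [sub_add_cancel] at this
  refine ⟨n, b, hbK, ?_⟩
  rw [← hrel, CommRingCat.comp_apply]
  show hom (χB y) * _ = _
  rw [← hhom b, ← hb, map_mul, hhom, map_pow, map_pow]

omit [IsAffineHom p] [Flat (I.subschemeι ≫ π)] in
/-- A function vanishing on a multiple of the divisor is a multiple of the equation. -/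
theorem exists_mul_eq (e : EqIdx π I g) (n : ℕ) (b : Γ(P, e.c.U.1))
    (cn : Idx ((I ^ n).subschemeι ≫ π) g)
    (hcn : cn = ⟨⟨(I ^ n).subschemeι ⁻¹ᵁ e.c.U.1, e.c.U.2.preimage _⟩, e.c.V, e.c.W,
      (I ^ n).subschemeι.preimage_mono e.c.hU, e.c.hW⟩)
    (hbn : ∀ x, x ∈ ((numer p I s n).comap (I ^ n).subschemeι).ideal cn.U → algebraMap _ cn.D x = 0)
    (hbK : b ∈ (numer p I s n).ideal e.c.U) :
    ∃ d : e.c.D, d * algebraMap Γ(P, e.c.U.1) e.c.D e.a ^ n = algebraMap Γ(P, e.c.U.1) e.c.D b := by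
  subst hcn
  let ι := (I ^ n).subschemeι
  let B := Γ(P, e.c.U.1)
  let R := Γ(S, e.c.V.1)
  let D := e.c.D
  let cn : Idx (ι ≫ π) g :=
    ⟨⟨ι ⁻¹ᵁ e.c.U.1, e.c.U.2.preimage ι⟩, e.c.V, e.c.W, ι.preimage_mono e.c.hU, e.c.hW⟩
  have h1 := Scheme.IdealSheafData.le_map_comap (J := numer p I s n) ι e.c.U
  rw [Scheme.IdealSheafData.ideal_map_of_isAffineHom] at h1
  have hbn : algebraMap Γ((I ^ n).subscheme, cn.U.1) cn.D (ι.app e.c.U.1 b) = 0 := hbn _ (h1 hbK)
  obtain ⟨hsurj, hk⟩ := exists_quot_equiv (I ^ n) e.c.U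
  letI algW' : Algebra R Γ((I ^ n).subscheme, cn.U.1) := Idx.algU cn
  let φ : B →ₐ[R] Γ((I ^ n).subscheme, cn.U.1) :=
    { (ι.app e.c.U.1).hom with
      commutes' := fun r => congr($(algSub_comp (⟨e.c.U, e.c.V, e.c.hU, e.a, e.ha, e.hI⟩ : Eqn π I) (I ^ n)) r) }
  have hmem : algebraMap B D b ∈ RingHom.ker (Algebra.TensorProduct.map φ (AlgHom.id R Γ(T, e.c.W.1))) := by
    rw [RingHom.mem_ker, Algebra.TensorProduct.algebraMap_apply, Algebra.TensorProduct.map_tmul]
    exact hbn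
  have hspan : RingHom.ker φ = Ideal.span {e.a ^ n} := by
    rw [show RingHom.ker φ = (I ^ n).ideal e.c.U from hk, Scheme.IdealSheafData.ideal_pow, Pi.pow_apply, e.hI,
      Ideal.span_singleton_pow]
  rw [Algebra.TensorProduct.rTensor_ker _ hsurj, hspan, Ideal.map_span, Set.image_singleton,
    Ideal.mem_span_singleton'] at hmem
  obtain ⟨d, hd⟩ := hmem
  exact ⟨d, by rw [← map_pow]; exact hd⟩

include hC hQ hs in
set_option maxHeartbeats 1000000 in
/-- Extensions on the charts glue. -/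
theorem exists_good_of_local (v : ∀ e : EqIdx π I g, Spec (CommRingCat.of e.c.D) ⟶ Y)
    (hv : ∀ e : EqIdx π I g, Good p Q s (toY e.c.U.2 e.c.D) (v e)) :
    ∃ f, Good p Q s (pullback.fst π g) f := by
  let 𝒰 : (pullback π g).OpenCover :=
    { I₀ := EqIdx π I g
      X := fun e => Spec (CommRingCat.of e.c.D)
      f := fun e => e.c.map
      mem₀ := by
        rw [Scheme.presieve₀_mem_precoverage_iff]
        exact ⟨fun z => exists_eqIdx hC z, fun e => inferInstance⟩ }
  have hg : ∀ e e' : EqIdx π I g, pullback.fst (𝒰.f e) (𝒰.f e') ≫ v e = pullback.snd (𝒰.f e) (𝒰.f e') ≫ v e' := by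
    intro e e'
    let w₁ := pullback.fst (𝒰.f e) (𝒰.f e')
    refine Scheme.Cover.hom_ext (pullback (𝒰.f e) (𝒰.f e')).affineCover _ _ fun k => ?_
    let A := (pullback (𝒰.f e) (𝒰.f e')).affineCover.X k
    let t := (pullback (𝒰.f e) (𝒰.f e')).affineCover.f k
    haveI : IsAffine A := inferInstanceAs (IsAffine (Spec _))
    -- cover by basic opens of the first chart
    let r : A ⟶ Spec (CommRingCat.of e.c.D) := t ≫ w₁
    haveI : IsOpenImmersion w₁ := inferInstance
    haveI : IsOpenImmersion r := inferInstance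
    refine hom_ext_basic e.c.D r _ _ fun d k' hk' => ?_
    have hd : algebraMap Γ(P, e.c.U.1) (Localization.Away d) e.a ∈ nonZeroDivisors (Localization.Away d) :=
      IsLocalization.map_nonZeroDivisors_le (.powers d) (Localization.Away d) ⟨_, e.nzd, rfl⟩
    have hw : locMap e.c.D d ≫ toY e.c.U.2 e.c.D = toY e.c.U.2 (Localization.Away d) := by
      simp only [locMap, toY, ← Category.assoc, ← Spec.map_comp, ← CommRingCat.ofHom_comp, ← IsScalarTower.algebraMap_eq]
    have g1 := (hv e).comp (k' ≫ r)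
    have g2 := (hv e').comp (k' ≫ t ≫ pullback.snd (𝒰.f e) (𝒰.f e'))
    have hwe : (k' ≫ t ≫ pullback.snd (𝒰.f e) (𝒰.f e')) ≫ toY e'.c.U.2 e'.c.D = (k' ≫ r) ≫ toY e.c.U.2 e.c.D := by
      rw [← e.c.map_fst, ← e'.c.map_fst]
      simp only [r, w₁, Category.assoc]
      rw [← reassoc_of% (pullback.condition (f := 𝒰.f e) (g := 𝒰.f e'))]
    rw [hwe] at g2
    rw [hk', hw] at g1 g2
    have key := Good.unique (e.isCompl hQ) (Localization.Away d) hs hd g1 g2
    calc k' ≫ t ≫ w₁ ≫ v e = locMap e.c.D d ≫ v e := by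
          rw [← hk']; simp only [r, Category.assoc]
      _ = _ := key
  let f := 𝒰.glueMorphisms v hg
  have hfe : ∀ e : EqIdx π I g, e.c.map ≫ f = v e := fun e => 𝒰.ι_glueMorphisms v hg e
  refine ⟨f, 𝒰.hom_ext _ _ fun e => ?_, ?_⟩
  · show e.c.map ≫ f ≫ p = e.c.map ≫ pullback.fst π g
    rw [reassoc_of% (hfe e), (hv e).1, e.c.map_fst]
  · refine Scheme.Cover.hom_ext ((𝒰.pullback₁ ((pullback.fst π g) ⁻¹ᵁ Q).ι)) _ _ fun e => ?_
    show pullback.fst ((pullback.fst π g) ⁻¹ᵁ Q).ι e.c.map ≫ _ = pullback.fst ((pullback.fst π g) ⁻¹ᵁ Q).ι e.c.map ≫ _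
    have hh := (hv e).comp (pullback.snd ((pullback.fst π g) ⁻¹ᵁ Q).ι e.c.map)
    let jQ := pullback.fst ((pullback.fst π g) ⁻¹ᵁ Q).ι e.c.map ≫ ((pullback.fst π g) ∣_ Q)
    have hjQ : jQ ≫ Q.ι = pullback.snd ((pullback.fst π g) ⁻¹ᵁ Q).ι e.c.map ≫ toY e.c.U.2 e.c.D := by
      rw [Category.assoc, morphismRestrict_ι, ← e.c.map_fst, pullback.condition_assoc]
    have h1 := hh.eq_lift jQ hjQ
    rw [pullback.condition_assoc, hfe e, h1, Category.assoc]

include hC hQ hs in
/-- The vanishing conditions give an extension. -/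
theorem exists_good_of_vanAt (h : ∀ n, VanRep13.VanAt ((I ^ n).subschemeι ≫ π)
      (ClSub.idealModι ((numer p I s n).comap (I ^ n).subschemeι)) g) :
    ∃ f, Good p Q s (pullback.fst π g) f := by
  have hloc : ∀ e : EqIdx π I g, ∃ v, Good p Q s (toY e.c.U.2 e.c.D) v := by
    intro e
    have hcp := e.isCompl hQ
    obtain ⟨χD, hχD, -⟩ := exists_ringMap e.c.D (locMap e.c.D (algebraMap Γ(P, e.c.U.1) e.c.D e.a))
      (offMap (hU := e.c.U.2) hcp e.c.D ≫ s) (off_section_comp hcp e.c.D hs)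
    refine exists_good hcp e.c.D hs e.nzd χD hχD fun y => ?_
    obtain ⟨n, b, hbK, hb⟩ := exists_numer_eq hQ hs hC ⟨e.c.U, e.c.V, e.c.hU, e.a, e.ha, e.hI⟩ e.c.D hcp χD hχD y
    obtain ⟨d, hd⟩ := exists_mul_eq e n b _ rfl ((vanAt_idealMod_iff _).1 (h n) _) hbK
    refine ⟨d, ((IsLocalization.Away.algebraMap_isUnit (S := Localization.Away (algebraMap Γ(P, e.c.U.1) e.c.D e.a))
      (algebraMap Γ(P, e.c.U.1) e.c.D e.a)).pow n).mul_left_injective ?_⟩
    show algebraMap e.c.D _ d * _ = _ * _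
    rw [← map_pow, ← map_mul, hd, ← hb, map_pow]
  choose v hv using hloc
  exact exists_good_of_local hC hQ hs v hv

end Charts

end Groth.Agent.CartExt13
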