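import Groth.Agent.Lib.CartExt13.Chart
import Groth.Agent.Lib.CartExt13.Algebra

/-!
# Sections off a Cartier divisor
-/

set_option autoImplicit false
set_option linter.style.haveILetI false
set_option backward.isDefEq.respectTransparency false
universe u

open CategoryTheory Limits AlgebraicGeometry TopologicalSpace
open scoped TensorProduct

namespace Groth.Agent.CartExt13

open VanRep13 (toY)

variable {P Y : Scheme.{u}} (p : Y ⟶ P) (Q : P.Opens) (s : (Q : Scheme.{u}) ⟶ Y)

/-- `u` is a section over `w` extending `s`. -/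
def Good {O : Scheme.{u}} (w : O ⟶ P) (u : O ⟶ Y) : Prop := u ≫ p = w ∧ (w ⁻¹ᵁ Q).ι ≫ u = (w ∣_ Q) ≫ s

variable {p Q s}

theorem Good.comp {O O' : Scheme.{u}} {w : O ⟶ P} {u : O ⟶ Y} (h : Good p Q s w u) (v : O' ⟶ O) :
    Good p Q s (v ≫ w) (v ≫ u) := by
  refine ⟨by rw [Category.assoc, h.1], ?_⟩
  calc ((v ≫ w) ⁻¹ᵁ Q).ι ≫ v ≫ u = (v ∣_ (w ⁻¹ᵁ Q)) ≫ (w ⁻¹ᵁ Q).ι ≫ u := by
        rw [morphismRestrict_ι_assoc]; rfl
    _ = ((v ≫ w) ∣_ Q) ≫ s := by rw [h.2, morphismRestrict_comp, Category.assoc]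

/-- A morphism landing in `Q`. -/
theorem Good.eq_lift {O : Scheme.{u}} {w : O ⟶ P} {u : O ⟶ Y} (h : Good p Q s w u) (v : O ⟶ Q) (hv : v ≫ Q.ι = w) :
    u = v ≫ s := by
  have htop : w ⁻¹ᵁ Q = ⊤ := by
    rw [← hv, Scheme.Hom.comp_preimage, Scheme.Opens.ι_preimage_self]; rfl
  haveI : IsIso (w ⁻¹ᵁ Q).ι := by
    haveI : Surjective (w ⁻¹ᵁ Q).ι := ⟨fun x => by
      have : x ∈ Set.range (w ⁻¹ᵁ Q).ι := by rw [Scheme.Opens.range_ι, htop]; trivial
      exact this⟩
    haveI : Epi (w ⁻¹ᵁ Q).ι.base := (TopCat.epi_iff_surjective _).2 (Surjective.surj (f := (w ⁻¹ᵁ Q).ι))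
    exact IsOpenImmersion.isIso _
  rw [← cancel_epi (w ⁻¹ᵁ Q).ι, h.2, ← Category.assoc]
  congr 1
  rw [← cancel_mono Q.ι, morphismRestrict_ι, Category.assoc, hv]

section Affine

variable (p Q s) {U : P.Opens} (hU : IsAffineOpen U) (a : Γ(P, U))

/-- `Q` is the complement of the zero locus of `a` on `U`. -/
def IsCompl : Prop := U ⊓ Q = P.basicOpen a

variable {p Q s} {hU a} (hQ : IsCompl Q a) (D : Type u) [CommRing D] [Algebra Γ(P, U) D]

theorem toY_preimage_compl (hQ : IsCompl Q a) :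
    (toY hU D) ⁻¹ᵁ Q = PrimeSpectrum.basicOpen (algebraMap Γ(P, U) D a) := by
  have h1 : (toY hU D) ⁻¹ᵁ Q = (toY hU D) ⁻¹ᵁ (U ⊓ Q) := by
    rw [Scheme.Hom.preimage_inf, VanRep13.toY_preimage, top_inf_eq]
  rw [h1, hQ, Scheme.Hom.comp_preimage, hU.fromSpec_preimage_basicOpen]
  rfl

/-- The map of the localization. -/
noncomputable abbrev locMap (d : D) : Spec (CommRingCat.of (Localization.Away d)) ⟶ Spec (CommRingCat.of D) :=
  Spec.map (CommRingCat.ofHom (algebraMap D (Localization.Away d)))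

theorem range_subset_compl (hQ : IsCompl Q a) :
    Set.range (locMap D (algebraMap Γ(P, U) D a) ≫ toY hU D) ⊆ Set.range Q.ι := by
  rintro _ ⟨x, rfl⟩
  rw [Scheme.Opens.range_ι]
  have h : locMap D (algebraMap Γ(P, U) D a) x ∈ (toY hU D) ⁻¹ᵁ Q := by
    rw [toY_preimage_compl D hQ]
    exact (PrimeSpectrum.localization_away_comap_range (Localization.Away (algebraMap Γ(P, U) D a)) _).le ⟨x, rfl⟩
  exact h

/-- The part of a chart off the divisor, as a map to `Q`. -/
noncomputable def offMap : Spec (CommRingCat.of (Localization.Away (algebraMap Γ(P, U) D a))) ⟶ Q :=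
  IsOpenImmersion.lift Q.ι _ (range_subset_compl (hU := hU) D hQ)

theorem offMap_ι : offMap (hU := hU) hQ D ≫ Q.ι = locMap D (algebraMap Γ(P, U) D a) ≫ toY hU D :=
  IsOpenImmersion.lift_fac _ _ _

variable [IsAffineHom p] (hs : s ≫ p = Q.ι)

include hs in
theorem off_section_comp :
    (offMap (hU := hU) hQ D ≫ s) ≫ p = locMap D (algebraMap Γ(P, U) D a) ≫ toY hU D := by
  rw [Category.assoc, hs, offMap_ι]

omit [IsAffineHom p] in
theorem range_subset_pre {O : Scheme.{u}} (v : O ⟶ Spec (CommRingCat.of D)) (u : O ⟶ Y) (h : u ≫ p = v ≫ toY hU D) :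
    Set.range u ⊆ (p ⁻¹ᵁ U : Y.Opens) := by
  rintro _ ⟨x, rfl⟩
  show p (u x) ∈ U
  rw [← Scheme.Hom.comp_apply, h]
  exact (VanRep13.toY_preimage hU D).ge (Set.mem_univ (v x))

/-- The ring map of a morphism to the preimage of the affine open. -/
theorem exists_ringMap {C : CommRingCat.{u}} (v : Spec C ⟶ Spec (CommRingCat.of D)) (u : Spec C ⟶ Y)
    (h : u ≫ p = v ≫ toY hU D) :
    ∃ χ : Γ(Y, p ⁻¹ᵁ U) ⟶ C, Spec.map χ ≫ (hU.preimage p).fromSpec = u ∧
      p.app U ≫ χ = CommRingCat.ofHom (algebraMap Γ(P, U) D) ≫ Spec.preimage v := by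
  have hr : Set.range u ⊆ Set.range (hU.preimage p).fromSpec := by
    rw [(hU.preimage p).range_fromSpec]; exact range_subset_pre D v u h
  let χ := Spec.preimage (IsOpenImmersion.lift (hU.preimage p).fromSpec u hr)
  have hχ : Spec.map χ ≫ (hU.preimage p).fromSpec = u := by
    rw [Spec.map_preimage, IsOpenImmersion.lift_fac]
  refine ⟨χ, hχ, ?_⟩
  apply Spec.map_injective
  rw [← cancel_mono hU.fromSpec, Spec.map_comp, Spec.map_comp, Category.assoc, Category.assoc]
  rw [show Spec.map (p.app U) ≫ hU.fromSpec = (hU.preimage p).fromSpec ≫ p by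
    rw [Scheme.Hom.app_eq_appLE]; exact IsAffineOpen.SpecMap_appLE_fromSpec p hU (hU.preimage p) le_rfl,
    ← Category.assoc, hχ, Spec.map_preimage, h]

include hs hQ in
/-- Extensions over a chart are unique. -/
theorem Good.unique (hD : algebraMap Γ(P, U) D a ∈ nonZeroDivisors D) {u u' : Spec (CommRingCat.of D) ⟶ Y}
    (h : Good p Q s (toY hU D) u) (h' : Good p Q s (toY hU D) u') : u = u' := by
  obtain ⟨χ, hχ, -⟩ := exists_ringMap D (𝟙 _) u (by rw [h.1, Category.id_comp])
  obtain ⟨χ', hχ', -⟩ := exists_ringMap D (𝟙 _) u' (by rw [h'.1, Category.id_comp])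
  have e1 := (h.comp (locMap D (algebraMap Γ(P, U) D a))).eq_lift _ (offMap_ι (hU := hU) hQ D)
  have e2 := (h'.comp (locMap D (algebraMap Γ(P, U) D a))).eq_lift _ (offMap_ι (hU := hU) hQ D)
  have e : locMap D (algebraMap Γ(P, U) D a) ≫ u = locMap D (algebraMap Γ(P, U) D a) ≫ u' := e1.trans e2.symm
  rw [← hχ, ← hχ', ← Category.assoc, ← Category.assoc, cancel_mono, ← Spec.map_comp, ← Spec.map_comp] at e
  have e' := Spec.map_injective e
  have : χ = χ' := by
    ext y
    refine IsLocalization.injective (Localization.Away (algebraMap Γ(P, U) D a))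
      (Submonoid.powers_le.2 hD) ?_
    exact congr($e' y)
  rw [← hχ, ← hχ', this]

set_option maxHeartbeats 1000000 in
include hs hQ in
/-- The ideal of the closure of the section kills an extension. -/
theorem Good.ker_le (hD : algebraMap Γ(P, U) D a ∈ nonZeroDivisors D) {u : Spec (CommRingCat.of D) ⟶ Y}
    (h : Good p Q s (toY hU D) u) : s.ker.comap u = ⊥ := by
  let ι := locMap D (algebraMap Γ(P, U) D a)
  have hι : ι.ker = ⊥ := by
    refine Scheme.IdealSheafData.ext_of_isAffine ?_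
    rw [Scheme.Hom.ker_apply, Scheme.IdealSheafData.ideal_bot, Pi.bot_apply, RingHom.ker_eq_bot_iff_eq_zero]
    intro x hx
    have h1 := congr($(Scheme.ΓSpecIso_naturality (CommRingCat.ofHom
      (algebraMap D (Localization.Away (algebraMap Γ(P, U) D a))))) x)
    rw [ConcreteCategory.comp_apply, ConcreteCategory.comp_apply] at h1
    rw [show (Spec.map (CommRingCat.ofHom (algebraMap D (Localization.Away (algebraMap Γ(P, U) D a))))).appTop x = 0
      from hx, map_zero] at h1
    have h2 := IsLocalization.injective (Localization.Away (algebraMap Γ(P, U) D a)) (Submonoid.powers_le.2 hD)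
      (h1.symm.trans (map_zero _).symm)
    exact (Scheme.ΓSpecIso (CommRingCat.of D)).commRingCatIsoToRingEquiv.injective (h2.trans (map_zero _).symm)
  refine le_bot_iff.1 ?_
  refine le_trans ?_ hι.le
  rw [← Scheme.IdealSheafData.map_bot ι, Scheme.IdealSheafData.le_map_iff_comap_le,
    ← Scheme.IdealSheafData.comap_comp, (h.comp ι).eq_lift _ (offMap_ι (hU := hU) hQ D),
    Scheme.IdealSheafData.comap_comp, ← Scheme.IdealSheafData.map_bot s]
  refine (Scheme.IdealSheafData.comap_mono _ (Scheme.IdealSheafData.comap_map_le _ _)).trans ?_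
  exact (Scheme.IdealSheafData.comap_bot _).le

include hs hQ in
/-- Integrality of the section gives an extension. -/
theorem exists_good (hD : algebraMap Γ(P, U) D a ∈ nonZeroDivisors D)
    (χ : Γ(Y, p ⁻¹ᵁ U) ⟶ CommRingCat.of (Localization.Away (algebraMap Γ(P, U) D a)))
    (hχ : Spec.map χ ≫ (hU.preimage p).fromSpec = offMap (hU := hU) hQ D ≫ s)
    (hint : ∀ y, ∃ d : D, algebraMap D _ d = χ y) : ∃ u, Good p Q s (toY hU D) u := by
  let L := Localization.Away (algebraMap Γ(P, U) D a)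
  have hinj : Function.Injective (algebraMap D L) := IsLocalization.injective _ (Submonoid.powers_le.2 hD)
  choose d hd using hint
  let ψ : Γ(Y, p ⁻¹ᵁ U) →+* D :=
    { toFun := d
      map_one' := hinj (by rw [hd, map_one, map_one])
      map_mul' := fun x y => hinj (by rw [map_mul, hd, hd, hd, map_mul])
      map_zero' := hinj (by rw [hd, map_zero, map_zero])
      map_add' := fun x y => hinj (by rw [map_add, hd, hd, hd, map_add]) }
  have hψ : CommRingCat.ofHom ψ ≫ CommRingCat.ofHom (algebraMap D L) = χ := by ext y; exact hd y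
  obtain ⟨χ', hχ', hχp⟩ := exists_ringMap D (locMap D (algebraMap Γ(P, U) D a)) (offMap (hU := hU) hQ D ≫ s)
    (off_section_comp hQ D hs)
  have hχχ : χ' = χ := Spec.map_injective (by rw [← cancel_mono (hU.preimage p).fromSpec, hχ', hχ])
  subst hχχ
  rw [Spec.preimage_map] at hχp
  have hψp : p.app U ≫ CommRingCat.ofHom ψ = CommRingCat.ofHom (algebraMap Γ(P, U) D) := by
    ext b
    refine hinj ?_
    exact (congr($hψ (p.app U b))).trans congr($hχp b)
  let u := Spec.map (CommRingCat.ofHom ψ) ≫ (hU.preimage p).fromSpec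
  have hup : u ≫ p = toY hU D := by
    rw [Category.assoc, ← IsAffineOpen.SpecMap_appLE_fromSpec p hU (hU.preimage p) le_rfl, ← Category.assoc,
      ← Spec.map_comp, ← Scheme.Hom.app_eq_appLE, hψp]
  refine ⟨u, hup, ?_⟩
  -- compare after the surjective open immersion of the localization
  let ι := locMap D (algebraMap Γ(P, U) D a)
  haveI : IsOpenImmersion ι := IsOpenImmersion.of_isLocalization (algebraMap Γ(P, U) D a)
  have hι : Set.range ι ⊆ Set.range ((toY hU D) ⁻¹ᵁ Q).ι := by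
    rw [Scheme.Opens.range_ι, toY_preimage_compl D hQ]
    exact (PrimeSpectrum.localization_away_comap_range _ _).le
  let j := IsOpenImmersion.lift ((toY hU D) ⁻¹ᵁ Q).ι ι hι
  have hj : j ≫ ((toY hU D) ⁻¹ᵁ Q).ι = ι := IsOpenImmersion.lift_fac _ _ _
  haveI : IsOpenImmersion j := by
    haveI : IsOpenImmersion (j ≫ ((toY hU D) ⁻¹ᵁ Q).ι) := by rw [hj]; infer_instance
    exact IsOpenImmersion.of_comp j ((toY hU D) ⁻¹ᵁ Q).ι
  haveI : Surjective j := ⟨fun x => by
    have hx : (((toY hU D) ⁻¹ᵁ Q).ι x : Spec (CommRingCat.of D)) ∈ Set.range ι := by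
      have h1 : ((toY hU D) ⁻¹ᵁ Q).ι x ∈ PrimeSpectrum.basicOpen (algebraMap Γ(P, U) D a) :=
        (SetLike.ext_iff.1 (toY_preimage_compl D hQ) _).1 x.2
      exact (PrimeSpectrum.localization_away_comap_range L (algebraMap Γ(P, U) D a)).ge h1
    obtain ⟨t, ht⟩ := hx
    exact ⟨t, ((toY hU D) ⁻¹ᵁ Q).ι.isOpenEmbedding.injective (by rw [← Scheme.Hom.comp_apply, hj, ht])⟩⟩
  haveI : Epi j.base := (TopCat.epi_iff_surjective _).2 (Surjective.surj (f := j))
  haveI : IsIso j := IsOpenImmersion.isIso j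
  rw [← cancel_epi j, reassoc_of% hj]
  have e : j ≫ (toY hU D) ∣_ Q = offMap (hU := hU) hQ D := by
    rw [← cancel_mono Q.ι, Category.assoc, morphismRestrict_ι, reassoc_of% hj, offMap_ι]
  rw [reassoc_of% e, ← hχ, ← hψ, Spec.map_comp, Category.assoc]

end Affine

end Groth.Agent.CartExt13
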